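import Mathlib

/-!
Tables for the extension of the Mathieu group on 23 points by its cocode module.
-/

set_option autoImplicit false

namespace Cfsg.Agent.Lib.M23Cocode

/-- The triple intersections of the rows, by pairs. -/
def triTab : List ℕ := [0, 1824, 840, 1412, 3392, 450, 308, 2344, 3838, 2310, 282, 912, 1824, 0, 2600, 1076, 360, 4061, 688, 3168, 2097, 101, 169, 420, 840, 2600, 0, 1539, 1632, 786, 2577, 3840, 673, 3579, 664, 706, 1412, 1076, 1539, 0, 1218, 3330, 1808, 3089, 1121, 3140, 3063, 1696, 3392, 360, 1632, 1218, 0, 2118, 4015, 2632, 579, 452, 77, 225, 450, 4061, 786, 3330, 2118, 0, 1043, 2563, 15, 1158, 586, 154, 308, 688, 2577, 1808, 4015, 1043, 0, 2322, 153, 30, 2104, 1172, 2344, 3168, 3840, 3089, 2632, 2563, 2322, 0, 2117, 2100, 2062, 1919, 3838, 2097, 673, 1121, 579, 15, 153, 2117, 0, 1045, 2569, 1155, 2310, 101, 3579, 3140, 452, 1158, 30, 2100, 1045, 0, 300, 141, 282, 169, 664, 3063, 77, 586, 2104, 2062, 2569, 300, 0, 456, 912, 420, 706, 1696, 225, 154, 1172, 1919, 1155, 141, 456, 0]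

/-- The linear part of the cocycle. -/
def linTab : List ℕ := [256, 32, 512, 1024, 64, 0, 0, 2048, 0, 0, 0, 0]

/-- An image list. -/
def translList : List ℕ := [1, 2, 3, 4, 5, 6, 7, 8, 9, 10, 11, 12, 13, 14, 15, 16, 17, 18, 19, 20, 21, 22, 0, 23]

/-- The images of the rows. -/
def translImg : List ℕ := [9347075, 1302533, 11100169, 6053905, 11952160, 15515712, 14254209, 4038912, 8077824, 7767041, 14919680, 13062145]

/-- The quadratic form of a lift. -/
def translQuad : List ℕ := [512, 4, 576, 512, 64, 0, 0, 2048, 0, 0, 0, 0]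

/-- An image list. -/
def projIList : List ℕ := [23, 22, 11, 15, 17, 9, 19, 13, 20, 5, 16, 2, 21, 7, 18, 3, 10, 4, 14, 6, 8, 12, 1, 0]

/-- The images of the rows. -/
def projIImg : List ℕ := [10765331, 6554826, 2115979, 2150610, 2229713, 283537, 806987, 2384216, 1070536, 267634, 2430217, 5279]

/-- The quadratic form of a lift. -/
def projIQuad : List ℕ := [1880, 2776, 3280, 2080, 32, 2048, 640, 3072, 1024, 2048, 0, 0]

/-- An image list. -/
def cubeTList : List ℕ := [0, 18, 6, 3, 2, 21, 1, 5, 16, 12, 7, 19, 8, 9, 17, 15, 13, 11, 4, 22, 10, 20, 14, 23]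

/-- The images of the rows. -/
def cubeTImg : List ℕ := [8546577, 4645632, 8439632, 5262104, 12594948, 11669008, 13811730, 4361520, 5350928, 5405696, 9610624, 10021376]

/-- The quadratic form of a lift. -/
def cubeTQuad : List ℕ := [2888, 1640, 464, 3248, 3936, 1152, 1152, 768, 1024, 0, 2048, 0]

/-- An image list. -/
def eltAList : List ℕ := [10, 8, 15, 0, 16, 11, 9, 6, 17, 3, 5, 7, 20, 18, 21, 12, 1, 19, 13, 14, 2, 4, 22, 23]

/-- The images of the rows. -/
def eltAImg : List ℕ := [16262146, 7622914, 13938692, 6053905, 10305542, 11282452, 14709264, 3698756, 421910, 6832158, 11538486, 13373586]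

/-- The quadratic form of a lift. -/
def eltAQuad : List ℕ := [2824, 3936, 576, 1056, 608, 3904, 3968, 1792, 0, 1024, 2048, 0]

/-- An image list. -/
def eltBList : List ℕ := [2, 19, 17, 11, 7, 9, 6, 18, 8, 21, 3, 10, 1, 14, 16, 15, 13, 0, 4, 12, 20, 5, 22, 23]

/-- The images of the rows. -/
def eltBImg : List ℕ := [12656663, 4845570, 13811730, 4216883, 9465987, 9519665, 12685424, 1413139, 1110320, 7417889, 9543722, 12641313]

/-- The quadratic form of a lift. -/
def eltBQuad : List ℕ := [776, 3912, 1792, 624, 1312, 320, 3840, 768, 0, 1024, 2048, 0]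

/-- The places where the lift of the first element is evaluated. -/
def evalA : List ℕ := [4845570, 7622914, 7479572, 5210132, 4845570, 7622914, 7479572, 5210132, 4845570, 7622914, 7479572, 5210132]

/-- The places where the lift of the second element is evaluated. -/
def evalB : List ℕ := [4845570, 4845570, 4845570, 4845570, 4845570, 4845570]

/-- The states along the cube of the second element. -/
def chainB : List ℕ := [4845570, 4845570, 4845570]

/-- The states along the cube of the product. -/
def chainAB : List ℕ := [4845570, 4845570, 7622914, 7479572, 5210132, 4845570, 4845570, 7622914, 7479572, 5210132, 4845570, 4845570, 7622914, 7479572, 5210132]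

/-- The pivots of the shortened code. -/
def pivots : List ℕ := [1, 2, 3, 4, 5, 6, 7, 8, 9, 10, 11]

/-- The rows of the shortened code. -/
def shortRows : List ℕ := [4845570, 1302533, 7221256, 6053905, 7417889, 2854977, 2019456, 4038912, 8077824, 7767041, 2422785]

/-- A row outside the shortened code. -/
def extraRow : ℕ := 13062145

end Cfsg.Agent.Lib.M23Cocode
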