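import Cfsg.Agent.Lib.M23Cocode.Loop

/-!
Every element of the Mathieu group on 24 points lifts to the cocycle; explicit lifts of two elements
fixing the extra point.
-/

set_option autoImplicit false

namespace Cfsg.Agent.Lib.M23Cocode

open Cfsg Cfsg.Agent.Lib.Golay

set_option maxRecDepth 20000

theorem transl_img : ∀ (i : Fin 12) (p : GolayPt),
    mw (translImg.getD i.val 0) (translate p) = row i p := by decide +kernel

theorem projI_img : ∀ (i : Fin 12) (p : GolayPt),
    mw (projIImg.getD i.val 0) (projInvFun p) = row i p := by decide +kernel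

theorem cubeT_img : ∀ (i : Fin 12) (p : GolayPt),
    mw (cubeTImg.getD i.val 0) (cubeTwistFun p) = row i p := by decide +kernel

theorem eltA_img : ∀ (i : Fin 12) (p : GolayPt),
    mw (eltAImg.getD i.val 0) (listFun eltAList p) = row i p := by decide +kernel

theorem eltB_img : ∀ (i : Fin 12) (p : GolayPt),
    mw (eltBImg.getD i.val 0) (listFun eltBList p) = row i p := by decide +kernel

theorem transl_quad : QuadOK translImg translQuad := by unfold QuadOK; decide +kernel

theorem projI_quad : QuadOK projIImg projIQuad := by unfold QuadOK; decide +kernel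

theorem cubeT_quad : QuadOK cubeTImg cubeTQuad := by unfold QuadOK; decide +kernel

theorem eltA_quad : QuadOK eltAImg eltAQuad := by unfold QuadOK; decide +kernel

theorem eltB_quad : QuadOK eltBImg eltBQuad := by unfold QuadOK; decide +kernel

theorem exists_lift {σ : Equiv.Perm GolayPt} (hσ : σ ∈ M24) : ∃ f, Lifts σ f := by
  suffices M24 ≤ liftable from (this hσ).2
  rw [← closure_generators, Subgroup.closure_le]
  rintro x (rfl | rfl | rfl)
  · exact ⟨translate_mem_M24, _, lifts_quadFun translate_mem_M24 transl_img transl_quad⟩
  · exact ⟨projInv_mem_M24, _, lifts_quadFun projInv_mem_M24 projI_img projI_quad⟩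
  · exact ⟨cubeTwist_mem_M24, _, lifts_quadFun cubeTwist_mem_M24 cubeT_img cubeT_quad⟩

theorem eltA_valid : inM24 eltAList = true := by decide +kernel

theorem eltB_valid : inM24 eltBList = true := by decide +kernel

/-- The first element. -/
noncomputable def eltA : Equiv.Perm GolayPt := toPerm eltAList

/-- The second element. -/
noncomputable def eltB : Equiv.Perm GolayPt := toPerm eltBList

theorem eltA_apply (p : GolayPt) : eltA p = listFun eltAList p := toPerm_apply (inM24.valid eltA_valid) p

theorem eltB_apply (p : GolayPt) : eltB p = listFun eltBList p := toPerm_apply (inM24.valid eltB_valid) p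

theorem eltA_mem : eltA ∈ M24 := toPerm_mem_M24 eltA_valid

theorem eltB_mem : eltB ∈ M24 := toPerm_mem_M24 eltB_valid

theorem eltA_lifts : Lifts eltA (quadFun eltAQuad) :=
  lifts_quadFun eltA_mem (fun i p => by rw [eltA_apply]; exact eltA_img i p) eltA_quad

theorem eltB_lifts : Lifts eltB (quadFun eltBQuad) :=
  lifts_quadFun eltB_mem (fun i p => by rw [eltB_apply]; exact eltB_img i p) eltB_quad

end Cfsg.Agent.Lib.M23Cocode
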