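import Cfsg.Prelude.Def_Spor_Mathieu
import Cfsg.Agent.Lib.M23Cocode.Gens

/-!
The extension of the Mathieu group on 23 points by the dual of the shortened code: pairs of a
permutation and a function lifting it to the cocycle.
-/

set_option autoImplicit false

namespace Cfsg.Agent.Lib.M23Cocode

open Cfsg Cfsg.Agent.Lib.Golay

/-- The words of the code vanishing at the extra point. -/
def shortCode : Submodule (ZMod 2) Wd :=
  golayCode ⊓ LinearMap.ker (LinearMap.proj (R := ZMod 2) (φ := fun _ : GolayPt => ZMod 2) none)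

theorem mem_shortCode {v : Wd} : v ∈ shortCode ↔ v ∈ golayCode ∧ v none = 0 := by
  simp [shortCode]

theorem mem_M24_of_M23 {σ : Equiv.Perm GolayPt} (h : σ ∈ Cfsg.Spor.M23) : σ ∈ M24 :=
  (Subgroup.mem_inf.1 h).1

theorem fix_none {σ : Equiv.Perm GolayPt} (h : σ ∈ Cfsg.Spor.M23) : σ none = none :=
  MulAction.mem_stabilizer_iff.1 (Subgroup.mem_inf.1 h).2

/-- A short word moved. -/
def mvS (σ : ↥Cfsg.Spor.M23) (d : ↥shortCode) : ↥shortCode :=
  ⟨mv σ.1 d.1, mem_shortCode.2 ⟨mv_mem (mem_M24_of_M23 σ.2) (mem_shortCode.1 d.2).1, by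
    have h : σ.1.symm none = none := σ.1.symm_apply_eq.2 (fix_none σ.2).symm
    simp [mv, h, (mem_shortCode.1 d.2).2]⟩⟩

theorem mvS_one (d : ↥shortCode) : mvS 1 d = d := rfl

theorem mvS_mul (σ τ : ↥Cfsg.Spor.M23) (d : ↥shortCode) : mvS (σ * τ) d = mvS σ (mvS τ d) := rfl

theorem mvS_add (σ : ↥Cfsg.Spor.M23) (d e : ↥shortCode) : mvS σ (d + e) = mvS σ d + mvS σ e := rfl

theorem mvS_inv (σ : ↥Cfsg.Spor.M23) (d : ↥shortCode) : mvS σ (mvS σ⁻¹ d) = d := by
  rw [← mvS_mul, mul_inv_cancel, mvS_one]

theorem mvS_inv' (σ : ↥Cfsg.Spor.M23) (d : ↥shortCode) : mvS σ⁻¹ (mvS σ d) = d := by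
  rw [← mvS_mul, inv_mul_cancel, mvS_one]

theorem two_zero : ∀ a : ZMod 2, a + a = 0 := by decide

/-- The functions lifting an element of the group on 23 points. -/
def LiftsS (σ : ↥Cfsg.Spor.M23) (f : ↥shortCode → ZMod 2) : Prop :=
  ∀ d e : ↥shortCode, f (d + e) = f d + f e + diff σ.1 d.1 e.1

/-- The extension. -/
@[ext] structure Ext where
  /-- The permutation. -/
  perm : ↥Cfsg.Spor.M23
  /-- The lift. -/
  fn : ↥shortCode → ZMod 2
  ok : LiftsS perm fn

instance extMul : Mul Ext :=
  ⟨fun x y => ⟨x.perm * y.perm, fun d => y.fn d + x.fn (mvS y.perm d), fun d e => by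
    beta_reduce
    rw [mvS_add, y.ok d e, x.ok (mvS y.perm d) (mvS y.perm e)]
    simp only [diff, mvS, Subgroup.coe_mul, mv_mul]
    linear_combination two_zero (th (mv y.perm.1 d.1) (mv y.perm.1 e.1))⟩⟩

instance extOne : One Ext :=
  ⟨⟨1, fun _ => 0, fun d e => by simp [diff, mv_one, CharTwo.add_self_eq_zero]⟩⟩

instance extInv : Inv Ext :=
  ⟨fun x => ⟨x.perm⁻¹, fun d => x.fn (mvS x.perm⁻¹ d), fun d e => by
    have h1 : mv x.perm.1 (mv (x.perm⁻¹).1 d.1) = d.1 := congrArg Subtype.val (mvS_inv x.perm d)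
    have h2 : mv x.perm.1 (mv (x.perm⁻¹).1 e.1) = e.1 := congrArg Subtype.val (mvS_inv x.perm e)
    beta_reduce
    rw [mvS_add, x.ok (mvS x.perm⁻¹ d) (mvS x.perm⁻¹ e)]
    simp only [diff, mvS, h1, h2]
    ring⟩⟩

theorem ext_mul_perm (x y : Ext) : (x * y).perm = x.perm * y.perm := rfl

theorem ext_mul_fn (x y : Ext) (d : ↥shortCode) : (x * y).fn d = y.fn d + x.fn (mvS y.perm d) := rfl

theorem ext_one_fn (d : ↥shortCode) : (1 : Ext).fn d = 0 := rfl

instance extGroup : Group Ext where
  mul_assoc x y z := by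
    refine Ext.ext (mul_assoc _ _ _) (funext fun d => ?_)
    simp only [ext_mul_fn, ext_mul_perm, mvS_mul]
    ring
  one_mul x := by
    refine Ext.ext (one_mul _) (funext fun d => ?_)
    simp [ext_mul_fn, ext_one_fn]
  mul_one x := by
    refine Ext.ext (mul_one _) (funext fun d => ?_)
    show (1 : Ext).fn d + x.fn (mvS 1 d) = x.fn d
    rw [ext_one_fn, zero_add, mvS_one]
  inv_mul_cancel x := by
    refine Ext.ext (inv_mul_cancel _) (funext fun d => ?_)
    show x.fn d + x.fn (mvS x.perm⁻¹ (mvS x.perm d)) = 0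
    rw [mvS_inv', two_zero]

instance extFinite : Finite Ext :=
  Finite.of_injective (fun x : Ext => (x.perm, x.fn)) fun x y h =>
    Ext.ext (congrArg Prod.fst h) (congrArg Prod.snd h)

/-- The projection to the Mathieu group. -/
def proj : Ext →* ↥Cfsg.Spor.M23 where
  toFun x := x.perm
  map_one' := rfl
  map_mul' _ _ := rfl

theorem proj_surjective : Function.Surjective proj := fun σ => by
  obtain ⟨f, hf⟩ := exists_lift (mem_M24_of_M23 σ.2)
  exact ⟨⟨σ, fun d => f d.1, fun d e =>
    hf d.1 (mem_shortCode.1 d.2).1 e.1 (mem_shortCode.1 e.2).1⟩, rfl⟩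

/-- The scalar product. -/
def dot (w v : Wd) : ZMod 2 := ∑ p, w p * v p

theorem dot_add_right (w u v : Wd) : dot w (u + v) = dot w u + dot w v := by
  simp [dot, mul_add, Finset.sum_add_distrib]

theorem dot_add_left (u v w : Wd) : dot (u + v) w = dot u w + dot v w := by
  simp [dot, add_mul, Finset.sum_add_distrib]

/-- The element given by a word. -/
def ofWord (w : Wd) : Ext :=
  ⟨1, fun d => dot w d.1, fun d e => by
    simp only [Submodule.coe_add, dot_add_right, diff, OneMemClass.coe_one, mv_one, two_zero, add_zero]⟩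

theorem ofWord_mem (w : Wd) : ofWord w ∈ proj.ker := rfl

theorem ofWord_add (v w : Wd) : ofWord (v + w) = ofWord v * ofWord w := by
  refine Ext.ext (one_mul _).symm (funext fun d => ?_)
  show dot (v + w) d.1 = dot w d.1 + dot v d.1
  rw [dot_add_left, add_comm]

theorem ofWord_conj (x : Ext) (w : Wd) :
    ofWord (w ∘ ⇑(x.perm.1 : Equiv.Perm GolayPt)⁻¹) * x = x * ofWord w := by
  refine Ext.ext ((one_mul _).trans (mul_one _).symm) (funext fun d => ?_)
  show x.fn d + dot (w ∘ ⇑(x.perm.1)⁻¹) (mv x.perm.1 d.1) = dot w d.1 + x.fn (mvS 1 d)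
  rw [mvS_one, add_comm]
  refine congrArg (· + _) ?_
  exact Equiv.sum_comp x.perm.1.symm (fun p => w p * d.1 p)

/-- The word of a pivot. -/
def pivot (j : Fin 11) : GolayPt := cpt (Fin.ofNat 12 (pivots.getD j.val 0))

/-- A basis of the short code. -/
def srow (j : Fin 11) : Wd := mw (shortRows.getD j.val 0)

theorem srow_mem (j : Fin 11) : srow j ∈ shortCode :=
  mem_shortCode.2 ⟨mw_mem ((by decide +kernel : ∀ k : Fin 11, isCodeMask (shortRows.getD k.val 0) = true) j),
    (by decide +kernel : ∀ k : Fin 11, srow k none = 0) j⟩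

theorem extra_mem : mw extraRow ∈ golayCode := mw_mem (by decide +kernel)

theorem pivot_srow : ∀ j k : Fin 11, srow k (pivot j) = if j = k then 1 else 0 := by decide +kernel

theorem short_rec_rows : ∀ (i : Fin 12) (p : GolayPt),
    (∑ j : Fin 11, row i (pivot j) * srow j p) + row i none * mw extraRow p = row i p := by decide +kernel

theorem short_rec {v : Wd} (hv : v ∈ shortCode) : v = ∑ j, v (pivot j) • srow j := by
  obtain ⟨hc, h0⟩ := mem_shortCode.1 hv
  have hkey : ∀ p, (∑ j : Fin 11, v (pivot j) * srow j p) + v none * mw extraRow p = v p := by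
    intro p
    have key := ofCo_co hc
    set c := co v with hcdef
    clear_value c
    subst key
    simp only [ofCo, Finset.sum_apply, Pi.smul_apply, smul_eq_mul, Finset.sum_mul]
    rw [Finset.sum_comm, ← Finset.sum_add_distrib]
    refine Finset.sum_congr rfl fun i _ => ?_
    rw [← short_rec_rows i p, mul_add, Finset.mul_sum]
    simp only [mul_assoc]
  funext p
  have := hkey p
  rw [h0, zero_mul, add_zero] at this
  simpa using this.symm

theorem ofWord_fn (w : Wd) (d : ↥shortCode) : (ofWord w).fn d = dot w d.1 := rfl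

theorem exists_word (x : Ext) (hx : proj x = 1) : ∃ w : Wd, ofWord w = x := by
  have hadd : ∀ d e : ↥shortCode, x.fn (d + e) = x.fn d + x.fn e := fun d e => by
    rw [x.ok d e, show x.perm = 1 from hx]
    simp [diff, mv_one, two_zero]
  let F : ↥shortCode →+ ZMod 2 := AddMonoidHom.mk' x.fn hadd
  refine ⟨fun p => ∑ j : Fin 11, if p = pivot j then F ⟨srow j, srow_mem j⟩ else 0,
    Ext.ext hx.symm (funext fun d => ?_)⟩
  have hd : d = ∑ j, d.1 (pivot j) • (⟨srow j, srow_mem j⟩ : ↥shortCode) :=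
    Subtype.ext (by simpa using short_rec d.2)
  have e : x.fn d = ∑ j, d.1 (pivot j) * F ⟨srow j, srow_mem j⟩ := by
    show F d = _
    conv_lhs => rw [hd]
    rw [map_sum]
    refine Finset.sum_congr rfl fun j _ => ?_
    rcases zmod2_cases (d.1 (pivot j)) with h | h <;> simp [h]
  rw [ofWord_fn, e, dot]
  simp only [Finset.sum_mul, ite_mul, zero_mul]
  rw [Finset.sum_comm]
  refine Finset.sum_congr rfl fun j _ => ?_
  simp [mul_comm]

/-- Code words meeting the last twelve positions once, by the position. -/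
def dualTab : List ℕ :=
  [0, 0, 0, 0, 0, 0, 0, 0, 0, 0, 0, 0, 1183, 2366, 1763, 3526, 3859, 2745, 493, 986, 1972, 3944, 2639, 3189]

set_option maxRecDepth 20000 in
theorem dual_rows : ∀ p q : GolayPt, (∃ i, cpt i = p) ∨ (∃ i, cpt i = q) ∨
    (∑ i, bits (dualTab.getD (idx p).val 0) i * row i q) = if q = p then 1 else 0 := by decide +kernel

theorem dual_mem {w : Wd} (h : ∀ v ∈ golayCode, dot w v = 0) : w ∈ golayCode := by
  suffices w = ofCo (co w) by rw [this]; exact ofCo_mem _
  set r := w + ofCo (co w) with hr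
  have h0 : ∀ i, r (cpt i) = 0 := by
    intro i
    have e : ofCo (co w) (cpt i) = w (cpt i) := by
      simp only [ofCo, Finset.sum_apply, Pi.smul_apply, smul_eq_mul]
      rw [Finset.sum_eq_single i]
      · have : row i (cpt i) = 1 :=
          (by decide +kernel : ∀ k : Fin 12, row k (cpt k) = 1) i
        rw [this, mul_one]; rfl
      · intro k _ hk
        have : row k (cpt i) = 0 :=
          (by decide +kernel : ∀ a b : Fin 12, a = b ∨ row a (cpt b) = 0) k i |>.resolve_left hk
        rw [this, mul_zero]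
      · simp
    rw [hr, Pi.add_apply, e, two_zero]
  have horth : ∀ v ∈ golayCode, dot r v = 0 := fun v hv => by
    rw [hr, dot_add_left, h v hv, zero_add]
    exact Cfsg.Agent.Lib.Golay.dot_eq_zero (ofCo_mem _) hv
  have hz : r = 0 := by
    funext p
    by_cases hp : ∃ i, cpt i = p
    · obtain ⟨i, rfl⟩ := hp; exact h0 i
    · obtain ⟨c, hc⟩ : ∃ c : Fin 12 → ZMod 2, ∀ q, (∀ i, cpt i ≠ q) →
          (∑ i, c i * row i q) = if q = p then 1 else 0 :=
        ⟨bits (dualTab.getD (idx p).val 0), fun q hq =>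
          ((dual_rows p q).resolve_left hp).resolve_left fun ⟨i, hi⟩ => hq i hi⟩
      have := horth _ (ofCo_mem c)
      rw [dot, Finset.sum_eq_single p] at this
      · simpa [ofCo, Finset.sum_apply, hc p (fun i hi => hp ⟨i, hi⟩)] using this
      · intro q _ hq
        by_cases hq' : ∃ i, cpt i = q
        · obtain ⟨i, rfl⟩ := hq'; rw [h0, zero_mul]
        · simp [ofCo, Finset.sum_apply, hc q (fun i hi => hq' ⟨i, hi⟩), hq]
      · simp
  rw [hr] at hz
  exact CharTwo.add_eq_zero.1 hz

theorem ofWord_eq_one_iff (w : Wd) :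
    ofWord w = 1 ↔ w ∈ golayCode ∨ w + Pi.single none 1 ∈ golayCode := by
  have hsingle : ∀ v : Wd, dot (Pi.single none 1) v = v none := fun v => by
    simp [dot, Pi.single_apply]
  constructor
  · intro h
    have hd : ∀ v : Wd, v ∈ shortCode → dot w v = 0 := fun v hv =>
      congrFun (congrArg Ext.fn h) ⟨v, hv⟩
    rcases zmod2_cases (dot w 1) with h1 | h1
    · refine Or.inl (dual_mem fun v hv => ?_)
      have hs : v + v none • (1 : Wd) ∈ shortCode :=
        mem_shortCode.2 ⟨add_mem hv (Submodule.smul_mem _ _ (Submodule.subset_span (Or.inr rfl))), by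
          simp [two_zero]⟩
      have := hd _ hs
      rcases zmod2_cases (v none) with e | e <;> simpa [e, dot_add_right, h1] using this
    · refine Or.inr (dual_mem fun v hv => ?_)
      have hs : v + v none • (1 : Wd) ∈ shortCode :=
        mem_shortCode.2 ⟨add_mem hv (Submodule.smul_mem _ _ (Submodule.subset_span (Or.inr rfl))), by
          simp [two_zero]⟩
      have := hd _ hs
      rw [dot_add_left, hsingle]
      rcases zmod2_cases (v none) with e | e <;> simpa [e, dot_add_right, h1] using this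
  · intro h
    refine Ext.ext rfl (funext fun d => ?_)
    show dot w d.1 = 0
    obtain ⟨hc, h0⟩ := mem_shortCode.1 d.2
    rcases h with h | h
    · exact Cfsg.Agent.Lib.Golay.dot_eq_zero h hc
    · have := Cfsg.Agent.Lib.Golay.dot_eq_zero h hc
      change dot (w + Pi.single none 1) d.1 = 0 at this
      rwa [dot_add_left, hsingle, h0, add_zero] at this

end Cfsg.Agent.Lib.M23Cocode
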