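import Cfsg.Agent.Lib.Golay.M24
import Cfsg.Agent.Lib.M23Cocode.Data

/-!
A cocycle on the binary Golay code, linear in its second argument, whose failure of additivity in
the first argument is the triple intersection, and the lifts of permutations to it.
-/

set_option autoImplicit false

namespace Cfsg.Agent.Lib.M23Cocode

open Cfsg Cfsg.Agent.Lib.Golay
open scoped Pointwise

/-- Words. -/
abbrev Wd := GolayPt → ZMod 2

/-- The first twelve points. -/
def cpt (i : Fin 12) : GolayPt := pt (i.castLE (by norm_num))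

/-- The coordinates of a word. -/
def co (v : Wd) : Fin 12 → ZMod 2 := fun i => v (cpt i)

/-- The word coded by a mask. -/
def mw (M : ℕ) : Wd := word (ptsOf M)

/-- The twelve low digits of a mask. -/
def bits (M : ℕ) : Fin 12 → ZMod 2 := fun i => if M.testBit i.val then 1 else 0

theorem co_mw (M : ℕ) : co (mw M) = bits M := by
  funext i
  simp [co, mw, bits, word, mem_ptsOf, cpt, idx_pt]

theorem mw_apply (M : ℕ) (p : GolayPt) : mw M p = if M.testBit (idx p).val then 1 else 0 := by
  simp [mw, word, mem_ptsOf]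

theorem mw_mem {M : ℕ} (h : isCodeMask M = true) : mw M ∈ golayCode := isCodeSet_of_isCodeMask h

/-- The mask of a row. -/
def rowMask (i : Fin 12) : ℕ := genRows.getD i.val 0

/-- A row of the generator matrix. -/
def row (i : Fin 12) : Wd := mw (rowMask i)

theorem row_mem (i : Fin 12) : row i ∈ golayCode :=
  mw_mem ((by decide +kernel : ∀ j : Fin 12, isCodeMask (rowMask j) = true) i)

/-- The word with given coordinates. -/
def ofCo (c : Fin 12 → ZMod 2) : Wd := ∑ i, c i • row i

theorem ofCo_mem (c : Fin 12 → ZMod 2) : ofCo c ∈ golayCode :=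
  Submodule.sum_mem _ fun i _ => Submodule.smul_mem _ _ (row_mem i)

/-- The word with given coordinates, as a linear map. -/
def reco : Wd →ₗ[ZMod 2] Wd where
  toFun v := ofCo (co v)
  map_add' v w := by
    simp only [ofCo, ← Finset.sum_add_distrib, ← add_smul]
    rfl
  map_smul' c v := by
    simp only [ofCo, RingHom.id_apply, Finset.smul_sum, smul_smul]
    rfl

theorem qr_reco : ∀ (t : ZMod 23) (p : GolayPt),
    (∑ i : Fin 12, co (qrWord t) i * row i p) = qrWord t p := by decide +kernel

theorem one_reco : ∀ p : GolayPt, (∑ i : Fin 12, co (1 : Wd) i * row i p) = 1 := by decide +kernel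

theorem ofCo_co {v : Wd} (hv : v ∈ golayCode) : ofCo (co v) = v := by
  suffices golayCode ≤ LinearMap.eqLocus reco LinearMap.id from this hv
  refine Submodule.span_le.2 ?_
  rintro w (⟨t, rfl⟩ | rfl)
  · refine funext fun p => ?_
    show (∑ i, co (qrWord t) i • row i) p = qrWord t p
    rw [Finset.sum_apply]
    exact qr_reco t p
  · refine funext fun p => ?_
    show (∑ i, co (1 : Wd) i • row i) p = (1 : Wd) p
    rw [Finset.sum_apply]
    exact one_reco p

/-! ### The cocycle -/

/-- The triple intersections of the rows, as tabulated. -/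
def triC (i j k : Fin 12) : ZMod 2 :=
  if (triTab.getD (12 * i.val + j.val) 0).testBit k.val then 1 else 0

/-- The upper half of the triple intersections. -/
def upper (i j k : Fin 12) : ZMod 2 := if i < j then triC i j k else 0

/-- The linear part. -/
def linC (i k : Fin 12) : ZMod 2 := if (linTab.getD i.val 0).testBit k.val then 1 else 0

/-- The cocycle in coordinates. -/
def thC (x y : Fin 12 → ZMod 2) : ZMod 2 :=
  ∑ k, y k * ((∑ i, ∑ j, x i * x j * upper i j k) + ∑ i, x i * linC i k)

/-- The cocycle. -/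
def th (v w : Wd) : ZMod 2 := thC (co v) (co w)

/-- The triple intersection of three words. -/
def tri (u v w : Wd) : ZMod 2 := ∑ p, u p * v p * w p

theorem polar (N : Fin 12 → Fin 12 → ZMod 2) (x y : Fin 12 → ZMod 2) :
    ∑ i, ∑ j, (x + y) i * (x + y) j * N i j =
      (∑ i, ∑ j, x i * x j * N i j) + (∑ i, ∑ j, y i * y j * N i j) +
        ∑ i, ∑ j, x i * y j * (N i j + N j i) := by
  have h : ∑ i, ∑ j, x i * y j * N j i = ∑ i, ∑ j, y i * x j * N i j := by
    rw [Finset.sum_comm]
    exact Finset.sum_congr rfl fun i _ => Finset.sum_congr rfl fun j _ => by ring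
  simp only [Pi.add_apply, mul_add, add_mul, Finset.sum_add_distrib, h]
  ring

theorem upper_add : ∀ i j k : Fin 12, upper i j k + upper j i k = triC i j k := by decide +kernel

theorem tri_row : ∀ i j k : Fin 12, tri (row i) (row j) (row k) = triC i j k := by decide +kernel

theorem thC_add_right (x y y' : Fin 12 → ZMod 2) : thC x (y + y') = thC x y + thC x y' := by
  simp only [thC, Pi.add_apply, add_mul, Finset.sum_add_distrib]

theorem thC_add_left (x x' y : Fin 12 → ZMod 2) :
    thC (x + x') y = thC x y + thC x' y + ∑ k, ∑ i, ∑ j, y k * x i * x' j * triC i j k := by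
  simp only [thC, polar (fun i j => upper i j _), upper_add]
  simp only [Pi.add_apply, add_mul, mul_add, Finset.sum_add_distrib, Finset.mul_sum, ← mul_assoc]
  ring

theorem tri_sum₁ (c : Fin 12 → ZMod 2) (r : Fin 12 → Wd) (v w : Wd) :
    tri (∑ i, c i • r i) v w = ∑ i, c i * tri (r i) v w := by
  simp only [tri, Finset.sum_apply, Pi.smul_apply, smul_eq_mul, Finset.sum_mul, Finset.mul_sum]
  rw [Finset.sum_comm]
  exact Finset.sum_congr rfl fun i _ => Finset.sum_congr rfl fun p _ => by ring

theorem tri_swap₁₂ (u v w : Wd) : tri u v w = tri v u w :=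
  Finset.sum_congr rfl fun p _ => by ring

theorem tri_swap₁₃ (u v w : Wd) : tri u v w = tri w v u :=
  Finset.sum_congr rfl fun p _ => by ring

theorem tri_ofCo (x x' y : Fin 12 → ZMod 2) :
    tri (ofCo x) (ofCo x') (ofCo y) = ∑ k, ∑ i, ∑ j, y k * x i * x' j * triC i j k := by
  rw [tri_swap₁₃, ofCo, tri_sum₁]
  refine Finset.sum_congr rfl fun k _ => ?_
  rw [tri_swap₁₃, ofCo, tri_sum₁, Finset.mul_sum]
  refine Finset.sum_congr rfl fun i _ => ?_
  rw [tri_swap₁₂, ofCo, tri_sum₁, Finset.mul_sum, Finset.mul_sum]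
  refine Finset.sum_congr rfl fun j _ => ?_
  rw [tri_swap₁₂, tri_row]
  ring

theorem co_add (v w : Wd) : co (v + w) = co v + co w := rfl

theorem th_add_right (u v w : Wd) : th u (v + w) = th u v + th u w := by
  rw [th, co_add, thC_add_right]; rfl

theorem th_add_left {u v w : Wd} (hu : u ∈ golayCode) (hv : v ∈ golayCode) (hw : w ∈ golayCode) :
    th (u + v) w = th u w + th v w + tri u v w := by
  have h := tri_ofCo (co u) (co v) (co w)
  rw [ofCo_co hu, ofCo_co hv, ofCo_co hw] at h
  rw [th, co_add, thC_add_left, ← h]; rfl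

/-! ### Moving words -/

/-- A word moved by a permutation. -/
def mv (σ : Equiv.Perm GolayPt) (v : Wd) : Wd := v ∘ σ.symm

theorem mv_apply (σ : Equiv.Perm GolayPt) (v : Wd) (p : GolayPt) : mv σ v (σ p) = v p := by simp [mv]

theorem mv_one (v : Wd) : mv 1 v = v := rfl

theorem mv_mul (σ τ : Equiv.Perm GolayPt) (v : Wd) : mv (σ * τ) v = mv σ (mv τ v) := rfl

theorem mv_inv (σ : Equiv.Perm GolayPt) (v : Wd) : mv σ (mv σ⁻¹ v) = v := by
  rw [← mv_mul, mul_inv_cancel, mv_one]

theorem mv_add (σ : Equiv.Perm GolayPt) (v w : Wd) : mv σ (v + w) = mv σ v + mv σ w := rfl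

theorem tri_mv (σ : Equiv.Perm GolayPt) (u v w : Wd) : tri (mv σ u) (mv σ v) (mv σ w) = tri u v w :=
  Equiv.sum_comp σ.symm (fun p => u p * v p * w p)

theorem mv_mem {σ : Equiv.Perm GolayPt} (hσ : σ ∈ M24) {v : Wd} (hv : v ∈ golayCode) :
    mv σ v ∈ golayCode := by
  have h := M24_isCodeSet hσ (mem_golayCode_iff.1 hv)
  have e : mv σ v = word (σ • support₂ v) := by
    funext p
    rw [smul_finset_eq_image]
    rcases zmod2_cases (mv σ v p) with h0 | h0 <;> rw [h0]
    · simp only [word]
      rw [if_neg]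
      intro hp
      obtain ⟨q, hq, rfl⟩ := Finset.mem_image.1 hp
      rw [mv_apply] at h0
      simp [support₂, h0] at hq
    · simp only [word]
      rw [if_pos]
      refine Finset.mem_image.2 ⟨σ.symm p, ?_, by simp⟩
      simp only [mv, Function.comp_apply] at h0
      simp [support₂, h0]
  rw [e]
  exact h

/-! ### Lifts -/

/-- The change of the cocycle under a permutation. -/
def diff (σ : Equiv.Perm GolayPt) (v w : Wd) : ZMod 2 := th (mv σ v) (mv σ w) + th v w

theorem diff_add_right (σ : Equiv.Perm GolayPt) (u v w : Wd) :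
    diff σ u (v + w) = diff σ u v + diff σ u w := by
  simp only [diff, mv_add, th_add_right]; ring

theorem diff_add_left {σ : Equiv.Perm GolayPt} (hσ : σ ∈ M24) {u v w : Wd} (hu : u ∈ golayCode)
    (hv : v ∈ golayCode) (hw : w ∈ golayCode) : diff σ (u + v) w = diff σ u w + diff σ v w := by
  simp only [diff, mv_add, th_add_left (mv_mem hσ hu) (mv_mem hσ hv) (mv_mem hσ hw),
    th_add_left hu hv hw, tri_mv]
  have h2 : ∀ a : ZMod 2, a + a = 0 := by decide
  linear_combination h2 (tri u v w)

theorem map_zero_of_add (g : Wd → ZMod 2)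
    (hg : ∀ v ∈ golayCode, ∀ w ∈ golayCode, g (v + w) = g v + g w) : g 0 = 0 := by
  have h := hg 0 (zero_mem _) 0 (zero_mem _)
  rw [add_zero] at h
  exact left_eq_add.1 h

theorem additive_sum (g : Wd → ZMod 2)
    (hg : ∀ v ∈ golayCode, ∀ w ∈ golayCode, g (v + w) = g v + g w) (c : Fin 12 → ZMod 2) :
    g (ofCo c) = ∑ i, c i * g (row i) := by
  unfold ofCo
  induction (Finset.univ : Finset (Fin 12)) using Finset.induction_on with
  | empty => simpa using map_zero_of_add g hg
  | insert j S hj ih =>
    rw [Finset.sum_insert hj, Finset.sum_insert hj,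
      hg _ (Submodule.smul_mem _ _ (row_mem j)) _ (Submodule.sum_mem _ fun i _ =>
        Submodule.smul_mem _ _ (row_mem i)), ih]
    rcases zmod2_cases (c j) with h | h <;> simp [h, map_zero_of_add g hg]

theorem diff_ofCo {σ : Equiv.Perm GolayPt} (hσ : σ ∈ M24) (x y : Fin 12 → ZMod 2) :
    diff σ (ofCo x) (ofCo y) = ∑ i, ∑ j, x i * y j * diff σ (row i) (row j) := by
  rw [additive_sum (fun v => diff σ v (ofCo y))
    (fun v hv w hw => diff_add_left hσ hv hw (ofCo_mem y))]
  refine Finset.sum_congr rfl fun i _ => ?_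
  rw [additive_sum (fun w => diff σ (row i) w) (fun v _ w _ => diff_add_right σ (row i) v w),
    Finset.mul_sum]
  exact Finset.sum_congr rfl fun j _ => by ring

/-- The functions lifting a permutation. -/
def Lifts (σ : Equiv.Perm GolayPt) (f : Wd → ZMod 2) : Prop :=
  ∀ v ∈ golayCode, ∀ w ∈ golayCode, f (v + w) = f v + f w + diff σ v w

/-- The quadratic function with a table. -/
def quadFun (N : List ℕ) (v : Wd) : ZMod 2 :=
  ∑ i : Fin 12, ∑ j : Fin 12, co v i * co v j * if (N.getD i.val 0).testBit j.val then 1 else 0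

/-- The check that a table gives a lift. -/
def QuadOK (img N : List ℕ) : Prop :=
  ∀ i j : Fin 12, thC (bits (img.getD i.val 0)) (bits (img.getD j.val 0)) + thC (bits (rowMask i)) (bits (rowMask j)) =
    (if (N.getD i.val 0).testBit j.val then 1 else 0) + (if (N.getD j.val 0).testBit i.val then 1 else 0)

theorem lifts_quadFun {σ : Equiv.Perm GolayPt} (hσ : σ ∈ M24) {img N : List ℕ}
    (himg : ∀ (i : Fin 12) (p : GolayPt), mw (img.getD i.val 0) (σ p) = row i p) (hN : QuadOK img N) :
    Lifts σ (quadFun N) := by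
  have hrow : ∀ i : Fin 12, mv σ (row i) = mw (img.getD i.val 0) := fun i => funext fun p => by
    have := himg i (σ.symm p)
    rw [Equiv.apply_symm_apply] at this
    exact this.symm
  intro v hv w hw
  have e := diff_ofCo hσ (co v) (co w)
  rw [ofCo_co hv, ofCo_co hw] at e
  rw [e, quadFun, co_add, polar (fun i j : Fin 12 => if (N.getD i.val 0).testBit j.val then (1 : ZMod 2) else 0)]
  refine congrArg _ (Finset.sum_congr rfl fun i _ => Finset.sum_congr rfl fun j _ => ?_)
  rw [← hN i j]
  simp only [diff, hrow]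
  simp only [th, co_mw, row]

/-- The permutations with a lift. -/
def liftable : Subgroup (Equiv.Perm GolayPt) where
  carrier := {σ | σ ∈ M24 ∧ ∃ f, Lifts σ f}
  one_mem' := ⟨one_mem _, 0, fun v _ w _ => by
    simp only [diff, mv_one, Pi.zero_apply, add_zero, zero_add]
    exact (CharTwo.add_self_eq_zero _).symm⟩
  mul_mem' := by
    rintro σ τ ⟨hσ, f, hf⟩ ⟨hτ, g, hg⟩
    refine ⟨mul_mem hσ hτ, fun v => g v + f (mv τ v), fun v hv w hw => ?_⟩
    simp only [mv_add, hg v hv w hw, hf _ (mv_mem hτ hv) _ (mv_mem hτ hw), diff, mv_mul]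
    have h2 : ∀ a : ZMod 2, a + a = 0 := by decide
    linear_combination h2 (th (mv τ v) (mv τ w))
  inv_mem' := by
    rintro σ ⟨hσ, f, hf⟩
    refine ⟨inv_mem hσ, fun v => f (mv σ⁻¹ v), fun v hv w hw => ?_⟩
    simp only [mv_add, hf _ (mv_mem (inv_mem hσ) hv) _ (mv_mem (inv_mem hσ) hw), diff, mv_inv]
    ring

end Cfsg.Agent.Lib.M23Cocode
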