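import Cfsg.Agent.Lib.M23Cocode.Ext

/-!
The extension of the Mathieu group on 23 points by the cocode module does not split: two elements
with two relations have no lifts satisfying them.
-/

set_option autoImplicit false

namespace Cfsg.Agent.Lib.M23Cocode

open Cfsg Cfsg.Agent.Lib.Golay

/-- The test for a short word. -/
def okMask (M : ℕ) : Bool := isCodeMask M && !M.testBit 23

theorem mw_short {M : ℕ} (h : okMask M = true) : mw M ∈ shortCode := by
  simp only [okMask, Bool.and_eq_true] at h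
  refine mem_shortCode.2 ⟨mw_mem h.1, ?_⟩
  rw [mw_apply]
  have : (idx none).val = 23 := rfl
  simp only [this]
  simpa using h.2

/-- The short word coded by a mask. -/
def stOf (M : ℕ) : ↥shortCode := if h : okMask M = true then ⟨mw M, mw_short h⟩ else 0

theorem mvS_stOf {σ : ↥Cfsg.Spor.M23} {l : List ℕ} (hl : ∀ p, σ.1 p = listFun l p) {M M' : ℕ}
    (h : okMask M = true) (h' : okMask M' = true) (hp : ∀ p, mw M' (listFun l p) = mw M p) :
    mvS σ (stOf M) = stOf M' := by
  rw [stOf, stOf, dif_pos h, dif_pos h']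
  refine Subtype.ext (funext fun p => ?_)
  have := hp (σ.1.symm p)
  rw [← hl, Equiv.apply_symm_apply] at this
  exact this.symm

theorem eltA_mem23 : eltA ∈ Cfsg.Spor.M23 :=
  Subgroup.mem_inf.2 ⟨eltA_mem, MulAction.mem_stabilizer_iff.2
    ((eltA_apply none).trans (by decide +kernel))⟩

theorem eltB_mem23 : eltB ∈ Cfsg.Spor.M23 :=
  Subgroup.mem_inf.2 ⟨eltB_mem, MulAction.mem_stabilizer_iff.2
    ((eltB_apply none).trans (by decide +kernel))⟩

/-- The first element in the group on 23 points. -/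
noncomputable def a23 : ↥Cfsg.Spor.M23 := ⟨eltA, eltA_mem23⟩

/-- The second element in the group on 23 points. -/
noncomputable def b23 : ↥Cfsg.Spor.M23 := ⟨eltB, eltB_mem23⟩

set_option maxRecDepth 20000 in
theorem rel_lists : ∀ p : GolayPt,
    (let b := listFun eltBList; let a := listFun eltAList; let w := fun q => a (a (a (a (b q))))
     b (b (b p)) = p ∧ w (w (w p)) = p) := by decide +kernel

theorem rel_b : b23 * b23 * b23 = 1 := by
  refine Subtype.ext (Equiv.ext fun p => ?_)
  simp only [Subgroup.coe_mul, Equiv.Perm.mul_apply, b23, OneMemClass.coe_one, Equiv.Perm.coe_one,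
    id_eq, eltB_apply]
  exact (rel_lists p).1

set_option maxRecDepth 20000 in
theorem rel_ab : (a23 * a23 * a23 * a23 * b23) * (a23 * a23 * a23 * a23 * b23) *
    (a23 * a23 * a23 * a23 * b23) = 1 := by
  refine Subtype.ext (Equiv.ext fun p => ?_)
  simp only [Subgroup.coe_mul, Equiv.Perm.mul_apply, a23, b23, OneMemClass.coe_one, Equiv.Perm.coe_one,
    id_eq, eltA_apply, eltB_apply]
  exact (rel_lists p).2

theorem step_check : [4845570, 7622914, 7479572, 5210132].all okMask = true ∧ ∀ p : GolayPt,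
    mw 7622914 (listFun eltAList p) = mw 4845570 p ∧ mw 7479572 (listFun eltAList p) = mw 7622914 p ∧
    mw 5210132 (listFun eltAList p) = mw 7479572 p ∧ mw 4845570 (listFun eltAList p) = mw 5210132 p ∧
    mw 4845570 (listFun eltBList p) = mw 4845570 p := by decide +kernel

theorem orbit_sum : ∀ p : GolayPt, mw 4845570 p + mw 7622914 p + mw 7479572 p + mw 5210132 p = 0 := by
  decide +kernel

theorem quad_value : quadFun eltAQuad (mw 4845570) + quadFun eltAQuad (mw 7622914) +
    quadFun eltAQuad (mw 7479572) + quadFun eltAQuad (mw 5210132) = 1 := by decide +kernel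

theorem two_zero' : ∀ a : ZMod 2, a + a = 0 := by decide

theorem no_lifts (A B : Ext) (hA : A.perm = a23) (hB : B.perm = b23) (hB3 : B * B * B = 1)
    (hW : (A * A * A * A * B) * (A * A * A * A * B) * (A * A * A * A * B) = 1) : False := by
  obtain ⟨hok, hp⟩ := step_check
  simp only [List.all_cons, List.all_nil, Bool.and_true, Bool.and_eq_true] at hok
  obtain ⟨k0, k1, k2, k3⟩ := hok
  have ha : ∀ q, a23.1 q = listFun eltAList q := eltA_apply
  have hb : ∀ q, b23.1 q = listFun eltBList q := eltB_apply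
  have s0 : mvS a23 (stOf 4845570) = stOf 7622914 := mvS_stOf ha k0 k1 fun p => (hp p).1
  have s1 : mvS a23 (stOf 7622914) = stOf 7479572 := mvS_stOf ha k1 k2 fun p => (hp p).2.1
  have s2 : mvS a23 (stOf 7479572) = stOf 5210132 := mvS_stOf ha k2 k3 fun p => (hp p).2.2.1
  have s3 : mvS a23 (stOf 5210132) = stOf 4845570 := mvS_stOf ha k3 k0 fun p => (hp p).2.2.2.1
  have sb : mvS b23 (stOf 4845570) = stOf 4845570 := mvS_stOf hb k0 k0 fun p => (hp p).2.2.2.2
  have e1 := congrArg (fun x : Ext => x.fn (stOf 4845570)) hB3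
  have e2 := congrArg (fun x : Ext => x.fn (stOf 4845570)) hW
  simp only [ext_mul_fn, ext_mul_perm, ext_one_fn, hA, hB, mvS_mul, s0, s1, s2, s3, sb] at e1 e2
  have hsum : A.fn (stOf 4845570) + A.fn (stOf 7622914) + A.fn (stOf 7479572) + A.fn (stOf 5210132) = 0 := by
    have h2 : (2 : ZMod 2) = 0 := by decide
    linear_combination e2 - e1 - (A.fn (stOf 4845570) + A.fn (stOf 7622914) + A.fn (stOf 7479572) +
      A.fn (stOf 5210132)) * h2
  let g : ↥shortCode → ZMod 2 := fun d => A.fn d + quadFun eltAQuad d.1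
  have hadd : ∀ d e, g (d + e) = g d + g e := by
    intro d e
    show A.fn (d + e) + quadFun eltAQuad (d.1 + e.1) = _
    rw [A.ok d e, hA, eltA_lifts d.1 (mem_shortCode.1 d.2).1 e.1 (mem_shortCode.1 e.2).1]
    show _ + diff eltA d.1 e.1 + _ = _
    linear_combination two_zero' (diff eltA d.1 e.1)
  have h0 : g 0 = 0 := by
    have := hadd 0 0
    rw [add_zero] at this
    exact left_eq_add.1 this
  have hz : stOf 4845570 + stOf 7622914 + stOf 7479572 + stOf 5210132 = 0 := by
    rw [stOf, stOf, stOf, stOf, dif_pos k0, dif_pos k1, dif_pos k2, dif_pos k3]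
    exact Subtype.ext (funext orbit_sum)
  have hg := congrArg g hz
  rw [hadd, hadd, hadd, h0] at hg
  have hc : ∀ M, okMask M = true → (stOf M).1 = mw M := fun M h => by rw [stOf, dif_pos h]
  simp only [g, hc _ k0, hc _ k1, hc _ k2, hc _ k3] at hg
  have : (1 : ZMod 2) = 0 := by linear_combination hg - hsum - quad_value
  exact one_ne_zero this

theorem no_complement (H : Subgroup Ext) (hinf : H ⊓ proj.ker = ⊥) : H ⊔ proj.ker ≠ ⊤ := by
  intro hsup
  have hex : ∀ σ : ↥Cfsg.Spor.M23, ∃ h ∈ H, proj h = σ := by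
    intro σ
    obtain ⟨x, rfl⟩ := proj_surjective σ
    have hx : x ∈ ((H ⊔ proj.ker : Subgroup Ext) : Set Ext) := by rw [hsup]; trivial
    rw [Subgroup.mul_normal] at hx
    obtain ⟨h, hh, n, hn, rfl⟩ := hx
    exact ⟨h, hh, by rw [map_mul, MonoidHom.mem_ker.1 hn, mul_one]⟩
  have hone : ∀ h ∈ H, proj h = 1 → h = 1 := fun h hh hk =>
    Subgroup.mem_bot.1 (hinf ▸ Subgroup.mem_inf.2 ⟨hh, hk⟩)
  obtain ⟨A, hA, hA'⟩ := hex a23
  obtain ⟨B, hB, hB'⟩ := hex b23
  refine no_lifts A B hA' hB' (hone _ (mul_mem (mul_mem hB hB) hB) ?_)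
    (hone _ (mul_mem (mul_mem ?_ ?_) ?_) ?_)
  · rw [map_mul, map_mul, hB', rel_b]
  · exact mul_mem (mul_mem (mul_mem (mul_mem hA hA) hA) hA) hB
  · exact mul_mem (mul_mem (mul_mem (mul_mem hA hA) hA) hA) hB
  · exact mul_mem (mul_mem (mul_mem (mul_mem hA hA) hA) hA) hB
  · simp only [map_mul, hA', hB']
    exact rel_ab

end Cfsg.Agent.Lib.M23Cocode
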